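import Cfsg.Agent.H769.Kaw.Step
import Cfsg.Agent.H631.Kaw.Defs

/-!
# The Kawanaka element on cuspidal vectors (S4842, K-ALL part (A); helper769)

* `sum_coef` : the element with the coefficients `coef` as a sum over the parabolic subgroups;
* `kaw_cusp` : on a vector `f` fixed by `V_K`, cuspidal for `L_K`, it acts as
  `(-1)^|K| |U_K| ∑ u ∈ V_K, ∑ y ∈ V_K⁻, u y`.
-/

set_option autoImplicit false
set_option linter.unusedSectionVars false

namespace Cfsg.Agent.H769.Kaw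

open CoxeterSystem Cfsg.Agent.ChevalleyStructure.CoxeterGeom Cfsg.Agent.Tits.Roots Cfsg.Agent.Tits.Core
  Cfsg.Agent.Tits.Exchange Cfsg.Agent.Nodes.Reps Cfsg.Agent.Nodes.BNOf Cfsg.Agent.Nodes.StabComb
  Cfsg.Agent.Nodes.Comb Cfsg.Agent.Nodes.Bruhat Cfsg.Agent.Nodes.OppDec Cfsg.Agent.Nodes.LeviDec
  Cfsg.Agent.Nodes.CardSup Cfsg.Agent.H631.Kaw

variable {I W Y : Type*} [Fintype I] [DecidableEq I] [Group W] [Group Y] {M : CoxeterMatrix I}
  {cs : CoxeterSystem M W} {A : I → I → ℤ} {h : IsCartan M A} {p : ℕ} {T : Subgroup Y} {n : I → Y}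
  {X : (I → ℤ) → Subgroup Y}

variable {V : Type*} [AddCommGroup V] [DistribMulAction Y V]

open Classical in
/-- the element with the coefficients `coef` -/
theorem sum_coef [Fintype Y] (f : V) : ∑ g : Y, coef cs h T X g • g • f =
    ∑ J : Finset I, (-1 : ℤ) ^ J.card • Nat.card (UJ cs h X (J : Set I)) •
      ∑ c : Y ⧸ PJ cs h T X (J : Set I), sm (cj c.out (VJ cs h X (J : Set I))) f := by
  have h1 : ∀ (J : Finset I) (g : Y), (fixV cs h T X J g : ℤ) =
      ∑ c : Y ⧸ PJ cs h T X (J : Set I), if g ∈ cj c.out (VJ cs h X (J : Set I)) then (1 : ℤ) else 0 := by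
    intro J g
    rw [fixV, Nat.card_eq_fintype_card, Fintype.card_subtype, Finset.card_eq_sum_ones, Nat.cast_sum,
      Finset.sum_filter]
    refine Finset.sum_congr rfl fun c _ => ?_
    rw [Nat.cast_one]
    exact if_congr mem_cj.symm rfl rfl
  have h2 : ∀ (J : Finset I), ∑ g : Y, (fixV cs h T X J g : ℤ) • g • f =
      ∑ c : Y ⧸ PJ cs h T X (J : Set I), sm (cj c.out (VJ cs h X (J : Set I))) f := by
    intro J
    simp only [h1, Finset.sum_smul]
    rw [Finset.sum_comm]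
    refine Finset.sum_congr rfl fun c _ => ?_
    rw [sm_def, Finset.sum_filter]
    refine Finset.sum_congr rfl fun g _ => ?_
    split_ifs
    · rw [one_smul]
    · rw [zero_smul]
  simp only [coef, Finset.sum_smul]
  rw [Finset.sum_comm]
  refine Finset.sum_congr rfl fun J _ => ?_
  rw [← h2 J, Finset.smul_sum, Finset.smul_sum]
  refine Finset.sum_congr rfl fun g _ => ?_
  rw [mul_smul, mul_smul, natCast_zsmul]

variable (R : RGD cs h p T n X)

include R

/-- the coset sum over the parabolic subgroups of type `J` -/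
theorem coset_sum [Finite W] [Fintype Y] (hG : GG cs h T X = ⊤) (J : Set I) (f : V) [DecidablePred fun d : Y ⧸ RGD.B cs h T X => MinP R J d.out]
    [Fintype (Y ⧸ PJ cs h T X J)] [Fintype (Y ⧸ RGD.B cs h T X)] :
    ∑ c : Y ⧸ PJ cs h T X J, sm (cj c.out (VJ cs h X J)) f =
      ∑ d ∈ Finset.univ.filter (fun d : Y ⧸ RGD.B cs h T X => MinP R J d.out), sm (cj d.out (VJ cs h X J)) f := by
  classical
  have := sumQ R hG J (fun g => sm (cj g (VJ cs h X J)) f) fun g x hx => by rw [cj_VJ_mul R hx]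
  convert this

/-- the alternating sum for one coset of `B` -/
theorem local_sum [Finite W] [Fintype Y] {K : Finset I} {w : W} {g : Y} (hw : Cell R.nsys cs h X w g)
    [DecidablePred fun J : Finset I => MinP R (J : Set I) g] {f : V}
    (hf : ∀ v ∈ VJ cs h X (K : Set I), v • f = f)
    (hc : ∀ K' : Finset I, K' ⊂ K → ∀ m : V, (∀ v ∈ VJ cs h X (K' : Set I), v • m = m) → m = 0) :
    (w = wJ cs (K : Set I) * w0 cs →
      ∑ J ∈ Finset.univ.filter (fun J : Finset I => MinP R (J : Set I) g), (-1 : ℤ) ^ J.card •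
        Nat.card (UJ cs h X (J : Set I)) • sm (cj g (VJ cs h X (J : Set I))) f =
      (-1 : ℤ) ^ K.card • Nat.card (UJ cs h X (Dset cs h w)) • sm (cj g (VJ cs h X (Dset cs h w))) f) ∧
    (w ≠ wJ cs (K : Set I) * w0 cs →
      ∑ J ∈ Finset.univ.filter (fun J : Finset I => MinP R (J : Set I) g), (-1 : ℤ) ^ J.card •
        Nat.card (UJ cs h X (J : Set I)) • sm (cj g (VJ cs h X (J : Set I))) f = 0) := by
  classical
  set D : Finset I := (Dset cs h w).toFinset with hD
  set S : Finset I := (Sset cs h (K : Set I) w).toFinset with hS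
  have hDc : (D : Set I) = Dset cs h w := by rw [hD, Set.coe_toFinset]
  have hSc : (S : Set I) = Sset cs h (K : Set I) w := by rw [hS, Set.coe_toFinset]
  have hmin : ∀ J : Finset I, MinP R (J : Set I) g ↔ J ⊆ D := by
    intro J
    rw [← Finset.coe_subset, hDc]
    constructor
    · rintro ⟨w', hw', hp⟩ j hj
      rw [Cell.unique R hw hw']
      exact hp j hj
    · exact fun hJ => ⟨w, hw, fun j hj => hJ hj⟩
  have hzero : ∀ J : Finset I, ¬ S ⊆ J → sm (cj g (VJ cs h X (J : Set I))) f = 0 := by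
    intro J hJ
    refine sm_eq_zero R hw (fun hcon => hJ ?_) hf hc
    rw [← Finset.coe_subset, hSc]
    exact sset_subset_iff.2 fun k hk => hcon k (by simpa using hk)
  have hind : ∀ J : Finset I, S ⊆ J → J ⊆ D → Nat.card (UJ cs h X (J : Set I)) •
      sm (cj g (VJ cs h X (J : Set I))) f = Nat.card (UJ cs h X (Dset cs h w)) • sm (cj g (VJ cs h X (Dset cs h w))) f := by
    intro J hSJ hJD
    have hJD' : (J : Set I) ⊆ Dset cs h w := by rw [← hDc]; exact_mod_cast hJD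
    refine indep R hJD' hw (fun j hj => hj) ?_ hf
    refine sset_subset_iff.1 ?_
    rw [← hSc]
    exact_mod_cast hSJ
  set Ψ := Nat.card (UJ cs h X (Dset cs h w)) • sm (cj g (VJ cs h X (Dset cs h w))) f with hΨ
  have hred : ∑ J ∈ Finset.univ.filter (fun J : Finset I => MinP R (J : Set I) g), (-1 : ℤ) ^ J.card •
      Nat.card (UJ cs h X (J : Set I)) • sm (cj g (VJ cs h X (J : Set I))) f =
      ∑ J ∈ Finset.univ.filter (fun J : Finset I => S ⊆ J ∧ J ⊆ D), (-1 : ℤ) ^ J.card • Ψ := by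
    rw [Finset.sum_filter, Finset.sum_filter]
    refine Finset.sum_congr rfl fun J _ => ?_
    by_cases h1 : J ⊆ D
    · rw [if_pos ((hmin J).2 h1)]
      by_cases h2 : S ⊆ J
      · rw [if_pos ⟨h2, h1⟩, hind J h2 h1]
      · rw [if_neg fun hcon => h2 hcon.1, hzero J h2, smul_zero, smul_zero]
    · rw [if_neg fun hcon => h1 ((hmin J).1 hcon), if_neg fun hcon => h1 hcon.2]
  rw [hred]
  have hSD_iff : (S : Set I) = D ↔ w = wJ cs (K : Set I) * w0 cs := by
    rw [hSc, hDc]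
    constructor
    · exact eq_of_sset
    · rintro rfl
      exact sset_winf _
  constructor
  · intro hwe
    have h1 : S = D := by exact_mod_cast hSD_iff.2 hwe
    have h2 : Finset.univ.filter (fun J : Finset I => S ⊆ J ∧ J ⊆ D) = {D} := by
      ext J
      simp only [Finset.mem_filter, Finset.mem_univ, true_and, Finset.mem_singleton, h1]
      exact ⟨fun h3 => Finset.Subset.antisymm h3.2 h3.1, fun h3 => h3 ▸ ⟨Finset.Subset.refl _, Finset.Subset.refl _⟩⟩
    rw [h2, Finset.sum_singleton]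
    have h3 : D.card = K.card := by
      have h4 := ncard_dset (cs := cs) (h := h) (K : Set I)
      rw [← hwe, ← hDc, Set.ncard_coe_finset, Set.ncard_coe_finset] at h4
      exact h4
    rw [h3]
  · intro hwe
    by_cases h1 : S ⊆ D
    · exact sum_interval h1 (fun h2 => hwe (hSD_iff.1 (by rw [h2]))) Ψ
    · have h2 : Finset.univ.filter (fun J : Finset I => S ⊆ J ∧ J ⊆ D) = ∅ := by
        rw [Finset.filter_eq_empty_iff]
        exact fun J _ hJ => h1 (hJ.1.trans hJ.2)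
      rw [h2, Finset.sum_empty]

/-- the cosets of `B` in the cell of `w_K w₀` -/
theorem cell_sum [Finite W] [Fintype Y] (K : Set I) {k : Y} (hk : Rp cs R.nsys (wJ cs K * w0 cs) k)
    (φ : Y → V) (hφ : ∀ g, ∀ b ∈ RGD.B cs h T X, φ (g * b) = φ g)
    [DecidablePred fun d : Y ⧸ RGD.B cs h T X => Cell R.nsys cs h X (wJ cs K * w0 cs) d.out]
    [Fintype (Y ⧸ RGD.B cs h T X)] [DecidablePred (· ∈ VJ cs h X K)] :
    ∑ d ∈ Finset.univ.filter (fun d : Y ⧸ RGD.B cs h T X => Cell R.nsys cs h X (wJ cs K * w0 cs) d.out), φ d.out =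
      ∑ u ∈ Finset.univ.filter (· ∈ VJ cs h X K), φ (u * k) := by
  set w := wJ cs K * w0 cs with hw
  have hmk : ∀ g : Y, ∃ b ∈ RGD.B cs h T X, (QuotientGroup.mk g : Y ⧸ RGD.B cs h T X).out = g * b := by
    intro g
    have h1 : g⁻¹ * (QuotientGroup.mk g : Y ⧸ RGD.B cs h T X).out ∈ RGD.B cs h T X :=
      QuotientGroup.eq.1 (Quotient.out_eq' _).symm
    exact ⟨_, h1, by group⟩
  symm
  refine Finset.sum_bij (fun u _ => (QuotientGroup.mk (u * k) : Y ⧸ RGD.B cs h T X)) (fun u hu => ?_)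
    (fun u hu v hv huv => ?_) (fun d hd => ?_) fun u hu => ?_
  · simp only [Finset.mem_filter, Finset.mem_univ, true_and] at hu ⊢
    obtain ⟨b, hb, e⟩ := hmk (u * k)
    rw [e]
    exact ((cell_of_rp hk).mul_left (VJ_le_B K hu)).mul_right hb
  · simp only [Finset.mem_filter, Finset.mem_univ, true_and] at hu hv
    have h1 : (u * k)⁻¹ * (v * k) ∈ RGD.B cs h T X := QuotientGroup.eq.1 huv
    have h2 : u⁻¹ * v ∈ VJ cs h X K := mul_mem (inv_mem hu) hv
    have h3 : k⁻¹ * (u⁻¹ * v) * k ∈ RGD.B cs h T X := by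
      have : (u * k)⁻¹ * (v * k) = k⁻¹ * (u⁻¹ * v) * k := by group
      rwa [this] at h1
    have h4 := mem_PW_of_conj R hk (VJ_le_U K h2) h3
    have h5 : RGD.Sup X (PW cs h w⁻¹) ≤ UJ cs h X K := by
      refine RGD.Sup_mono fun x hx => ?_
      have h6 := winf_pos (cs := cs) (h := h) (K := K) (hx.1.act w⁻¹) hx.2.2 (by rw [← hw, rep_apply_inv]; exact hx.2.1)
      rwa [← hw, rep_apply_inv] at h6
    have h6 : u⁻¹ * v ∈ UJ cs h X K ⊓ VJ cs h X K := ⟨h5 h4, h2⟩
    rw [UJ_inf_VJ R K, Subgroup.mem_bot] at h6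
    exact inv_mul_eq_one.1 h6
  · simp only [Finset.mem_filter, Finset.mem_univ, true_and] at hd
    obtain ⟨b₁, hb₁, k', hk', b₂, hb₂, e⟩ := hd
    obtain ⟨t, ht, u, hu, rfl⟩ := (RGD.mem_B R).1 hb₁
    have h1 : t * u * t⁻¹ ∈ RGD.Sup X (RGD.Pos cs h) :=
      ((Subgroup.mem_normalizer_iff.1 ((RGD.T_le_normalizer_U R) ht)) u).1 hu
    obtain ⟨a, ha, v, hv, e2⟩ := (mem_U_iff R (J := K)).1 (inv_mem h1)
    have e3 : t * u * t⁻¹ = v⁻¹ * a⁻¹ := by
      rw [← mul_inv_rev, ← e2, inv_inv]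
    have h2 : k⁻¹ * a⁻¹ * k ∈ RGD.B cs h T X := by
      have h3 : cj k⁻¹ (UJ cs h X K) ≤ UJ cs h X (Dset cs h w) :=
        cj_Sup_le R hk.inv (fun x hx => hx.1) fun x hx => winf_inv_PosJ hx
      have h4 : k⁻¹ * a⁻¹ * k⁻¹⁻¹ ∈ cj k⁻¹ (UJ cs h X K) := conj_mem_cj.2 (inv_mem ha)
      rw [inv_inv] at h4
      exact RGD.U_le_B (UJ_le_U _ (h3 h4))
    have h3 : k⁻¹ * t * k ∈ T := by
      have := cj_T R hk.inv
      have h5 : k⁻¹ * t * k⁻¹⁻¹ ∈ cj k⁻¹ T := conj_mem_cj.2 ht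
      rwa [this, inv_inv] at h5
    have h4 : k⁻¹ * k' ∈ T := hk.unique hk'
    refine ⟨v⁻¹, by simpa using hv, ?_⟩
    rw [← d.out_eq']
    refine QuotientGroup.eq.2 ?_
    have e4 : (v⁻¹ * k)⁻¹ * d.out = (k⁻¹ * a⁻¹ * k) * (k⁻¹ * t * k) * (k⁻¹ * k') * b₂ := by
      rw [e]
      have e5 : t * u = v⁻¹ * a⁻¹ * t := by rw [← e3]; group
      rw [e5]
      group
    rw [e4]
    exact mul_mem (mul_mem (mul_mem h2 (RGD.T_le_B h3)) (RGD.T_le_B h4)) hb₂
  · obtain ⟨b, hb, e⟩ := hmk (u * k)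
    rw [e, hφ _ b hb]

/-- **The Kawanaka element on cuspidal vectors.** -/
theorem kaw_cusp [Finite W] [Fintype Y] (hG : GG cs h T X = ⊤) (K : Finset I) (f : V)
    (hf : ∀ v ∈ VJ cs h X (K : Set I), v • f = f)
    (hc : ∀ K' : Finset I, K' ⊂ K → ∀ m : V, (∀ v ∈ VJ cs h X (K' : Set I), v • m = m) → m = 0) :
    ∑ g : Y, coef cs h T X g • g • f = (-1 : ℤ) ^ K.card • Nat.card (UJ cs h X (K : Set I)) •
      sm (VJ cs h X (K : Set I)) (sm (VNJ cs h X (K : Set I)) f) := by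
  classical
  obtain ⟨k, hk⟩ := exists_rp cs R.nsys (wJ cs (K : Set I) * w0 cs)
  set w := wJ cs (K : Set I) * w0 cs with hw
  rw [sum_coef]
  have h1 : ∀ J : Finset I, ∑ c : Y ⧸ PJ cs h T X (J : Set I), sm (cj c.out (VJ cs h X (J : Set I))) f =
      ∑ d : Y ⧸ RGD.B cs h T X, if MinP R (J : Set I) d.out then sm (cj d.out (VJ cs h X (J : Set I))) f else 0 := by
    intro J
    rw [coset_sum R hG (J : Set I) f, Finset.sum_filter]
  simp only [h1, Finset.smul_sum]
  rw [Finset.sum_comm]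
  have h2 : ∀ d : Y ⧸ RGD.B cs h T X, ∑ J : Finset I, (-1 : ℤ) ^ J.card • Nat.card (UJ cs h X (J : Set I)) •
      (if MinP R (J : Set I) d.out then sm (cj d.out (VJ cs h X (J : Set I))) f else 0) =
      if Cell R.nsys cs h X w d.out then (-1 : ℤ) ^ K.card • Nat.card (UJ cs h X (Dset cs h w)) •
        sm (cj d.out (VJ cs h X (Dset cs h w))) f else 0 := by
    intro d
    obtain ⟨v, hv⟩ := (mem_GG R).1 (show d.out ∈ GG cs h T X by rw [hG]; exact Subgroup.mem_top _)
    have h3 := local_sum R hv hf hc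
    rw [Finset.sum_filter] at h3
    have h4 : ∑ J : Finset I, (-1 : ℤ) ^ J.card • Nat.card (UJ cs h X (J : Set I)) •
        (if MinP R (J : Set I) d.out then sm (cj d.out (VJ cs h X (J : Set I))) f else 0) =
        ∑ J : Finset I, if MinP R (J : Set I) d.out then (-1 : ℤ) ^ J.card •
          Nat.card (UJ cs h X (J : Set I)) • sm (cj d.out (VJ cs h X (J : Set I))) f else 0 := by
      refine Finset.sum_congr rfl fun J _ => ?_
      split_ifs
      · rfl
      · rw [smul_zero, smul_zero]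
    rw [h4]
    by_cases hvw : v = w
    · rw [h3.1 hvw, if_pos (hvw ▸ hv), hvw]
    · rw [h3.2 hvw, if_neg fun hcon => hvw (Cell.unique R hv hcon)]
  rw [Finset.sum_congr rfl fun d _ => h2 d, ← Finset.sum_filter]
  rw [cell_sum R (K : Set I) hk (fun g => (-1 : ℤ) ^ K.card • Nat.card (UJ cs h X (Dset cs h w)) •
    sm (cj g (VJ cs h X (Dset cs h w))) f) fun g b hb => by rw [cj_VJ_mul R (B_le_PJ hb)]]
  rw [← Finset.smul_sum, ← Finset.smul_sum]
  have hVN : cj k (VJ cs h X (Dset cs h w)) = VNJ cs h X (K : Set I) := by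
    apply le_antisymm
    · exact cj_Sup_le R hk (fun x hx => hx.1) fun x hx => winf_NotJ hx
    · rw [← cj_cj_inv k (VNJ cs h X (K : Set I))]
      exact cj_mono k (cj_Sup_le R hk.inv (fun x hx => NotNJ.isRoot hx) fun x hx => winf_inv_NotNJ hx)
  have hUU : cj k (UJ cs h X (Dset cs h w)) = UJ cs h X (K : Set I) := by
    apply le_antisymm
    · exact cj_Sup_le R hk (fun x hx => hx.1) fun x hx => winf_PosJ hx
    · rw [← cj_cj_inv k (UJ cs h X (K : Set I))]
      exact cj_mono k (cj_Sup_le R hk.inv (fun x hx => hx.1) fun x hx => winf_inv_PosJ hx)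
  have hcard : Nat.card (UJ cs h X (Dset cs h w)) = Nat.card (UJ cs h X (K : Set I)) := by
    rw [← hUU, card_cj]
  rw [hcard, sm_def (VJ cs h X (K : Set I))]
  congr 2
  refine Finset.sum_congr rfl fun u hu => ?_
  have hu' := (Finset.mem_filter.1 hu).2
  rw [cj_mul, hVN, sm_cj]
  have h5 : u⁻¹ • f = f := hf _ (inv_mem hu')
  rw [h5]

end Cfsg.Agent.H769.Kaw
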