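import Cfsg.Agent.H769.Kaw.Coset

/-!
# The element `w = w_K w₀` (S4842, K-ALL part (A); helper769)

`Dset w = {j | w α_j > 0}`, `Sset K w` = the support of the roots `w⁻¹ α_k`, `k ∈ K`.

* `eq_of_sset` : if `Sset K w = Dset w` then `w = w_K w₀`;
* `sset_winf` : `Sset K (w_K w₀) = Dset (w_K w₀)`;
* `card_dset` : then `|Dset w| = |K|`.
-/

set_option autoImplicit false
set_option linter.unusedSectionVars false

namespace Cfsg.Agent.H769.Kaw

open CoxeterSystem Cfsg.Agent.ChevalleyStructure.CoxeterGeom Cfsg.Agent.Tits.Roots Cfsg.Agent.Tits.Core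
  Cfsg.Agent.Tits.Exchange Cfsg.Agent.Nodes.Reps Cfsg.Agent.Nodes.BNOf Cfsg.Agent.Nodes.StabComb
  Cfsg.Agent.Nodes.Comb Cfsg.Agent.Nodes.Bruhat Cfsg.Agent.Nodes.OppDec Cfsg.Agent.Nodes.LeviDec

variable {I W : Type*} [Fintype I] [DecidableEq I] [Group W] {M : CoxeterMatrix I}
  (cs : CoxeterSystem M W) {A : I → I → ℤ} (h : IsCartan M A)

/-- the simple roots made positive by `w` -/
def Dset (w : W) : Set I := {j | 0 ≤ rep cs h w (sr j)}

/-- the support of `w⁻¹ K` -/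
def Sset (K : Set I) (w : W) : Set I := {j | ∃ k ∈ K, rep cs h w⁻¹ (sr k) j ≠ 0}

variable {cs h}

theorem rep_apply_sum (w : W) (x : I → ℤ) (m : I) : rep cs h w x m = ∑ k, x k * rep cs h w (sr k) m := by
  conv_lhs => rw [eq_sum_sr x, map_sum, Finset.sum_apply]
  exact Finset.sum_congr rfl fun k _ => by rw [map_smul, Pi.smul_apply, smul_eq_mul]

/-- `w⁻¹ K ⊆ Φ_J` if and only if the support is in `J` -/
theorem sset_subset_iff {K J : Set I} {w : W} :
    Sset cs h K w ⊆ J ↔ ∀ k ∈ K, rep cs h w⁻¹ (sr k) ∈ RootsJ cs h J := by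
  constructor
  · intro hs k hk
    refine ⟨(isRoot_sr cs h k).act _, fun m hm => ?_⟩
    by_contra hne
    exact hm (hs ⟨k, hk, hne⟩)
  · rintro hs m ⟨k, hk, hne⟩
    by_contra hm
    exact hne ((hs k hk).2 m hm)

/-- if `w⁻¹ K ⊆ Φ_J` then `w⁻¹ Φ_K ⊆ Φ_J` -/
theorem supp_of_sset {K J : Set I} {w : W} (hs : ∀ k ∈ K, rep cs h w⁻¹ (sr k) ∈ RootsJ cs h J) {x : I → ℤ}
    (hx : ∀ k, k ∉ K → x k = 0) (m : I) (hm : m ∉ J) : rep cs h w⁻¹ x m = 0 := by
  rw [rep_apply_sum]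
  refine Finset.sum_eq_zero fun k _ => ?_
  by_cases hk : k ∈ K
  · rw [(hs k hk).2 m hm, mul_zero]
  · rw [hx k hk, zero_mul]

theorem rep_nonpos_of_supp {J : Set I} {w : W} (hw : ∀ i ∈ J, 0 ≤ rep cs h w (sr i)) {x : I → ℤ} (h0 : x ≤ 0)
    (hx : ∀ k, k ∉ J → x k = 0) : rep cs h w x ≤ 0 := by
  have h1 := rep_nonneg_of_supp (cs := cs) (h := h) hw (neg_nonneg.2 h0)
    (fun k hk => by rw [Pi.neg_apply, hx k hk, neg_zero])
  rw [map_neg] at h1
  exact neg_nonneg.1 h1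

/-- a positive root below a simple root -/
theorem eq_sr_of_le {x : I → ℤ} (hx : IsRoot cs h x) (h0 : 0 ≤ x) {k : I} (hk : x ≤ sr k) : x = sr k := by
  refine hx.eq_sr h0 k fun m hm => le_antisymm ?_ (h0 m)
  have := hk m
  rwa [sr_ne hm] at this

/-- the simple roots of `D` in the support are mapped to simple roots of `K` -/
theorem exists_simple {K : Set I} {w : W} (hs : Sset cs h K w ⊆ Dset cs h w) {k : I} (hk : k ∈ K) {j : I}
    (hj : rep cs h w⁻¹ (sr k) j ≠ 0) : rep cs h w (sr j) = sr k := by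
  have h1 := sset_subset_iff.1 hs k hk
  have hD : ∀ i ∈ Dset cs h w, 0 ≤ rep cs h w (sr i) := fun i hi => hi
  have h2 : 0 ≤ rep cs h w⁻¹ (sr k) := by
    rcases h1.1.pos_or_neg with h3 | h3
    · exact h3
    · exfalso
      have h4 := rep_nonpos_of_supp (cs := cs) (h := h) hD h3 h1.2
      rw [rep_apply_inv] at h4
      exact (isRoot_sr cs h k).not_pos_neg (sr_nonneg k) h4
  have hjD : j ∈ Dset cs h w := hs ⟨k, hk, hj⟩
  refine eq_sr_of_le ((isRoot_sr cs h j).act w) hjD fun m => ?_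
  have h5 : (sr k : I → ℤ) m = ∑ i, rep cs h w⁻¹ (sr k) i * rep cs h w (sr i) m := by
    rw [← rep_apply_sum, rep_apply_inv]
  rw [h5]
  have h6 : ∀ i ∈ Finset.univ, 0 ≤ rep cs h w⁻¹ (sr k) i * rep cs h w (sr i) m := by
    intro i _
    by_cases hi : i ∈ Dset cs h w
    · exact mul_nonneg (h2 i) (hD i hi m)
    · rw [h1.2 i hi, zero_mul]
  refine le_trans ?_ (Finset.single_le_sum h6 (Finset.mem_univ j))
  have h7 : 0 < rep cs h w⁻¹ (sr k) j := lt_of_le_of_ne (h2 j) (Ne.symm hj)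
  have h7' : 1 ≤ rep cs h w⁻¹ (sr k) j := h7
  have h8 := hD j hjD m
  rw [Pi.zero_apply] at h8
  nlinarith

theorem eq_w0_of_nonpos [Finite W] {v : W} (hv : ∀ j, rep cs h v (sr j) ≤ 0) : v = w0 cs := by
  have h1 : w0 cs * v = 1 := by
    apply eq_one_of_nonneg cs h
    intro j
    rw [rep_mul_apply]
    exact rep_w0_nonneg ((isRoot_sr cs h j).act v) (hv j)
  calc v = (w0 cs)⁻¹ * (w0 cs * v) := by group
    _ = w0 cs := by rw [h1, mul_one, w0_inv]

theorem longest_wJ [Finite W] (K : Set I) : IsLongest cs K (wJ cs K) := isLongest_wJ cs K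

/-- **uniqueness** -/
theorem eq_of_sset [Finite W] {K : Set I} {w : W} (hs : Sset cs h K w = Dset cs h w) : w = wJ cs K * w0 cs := by
  have hL := longest_wJ (cs := cs) K
  have h1 : wJ cs K * w = w0 cs := by
    apply eq_w0_of_nonpos (cs := cs) (h := h)
    intro j
    rw [rep_mul_apply]
    by_cases hj : j ∈ Dset cs h w
    · have hj' := hj
      rw [← hs] at hj'
      obtain ⟨k, hk, hne⟩ := hj'
      rw [exists_simple hs.le hk hne]
      exact rep_longest_nonpos hL (sr_mem_PosJ hk)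
    · have h2 : rep cs h w (sr j) ≤ 0 := (((isRoot_sr cs h j).act w).pos_or_neg).resolve_left hj
      have hr : IsRoot cs h (-(rep cs h w (sr j))) := ((isRoot_sr cs h j).act w).neg
      rcases mem_PosJ_or_NotJ K hr (neg_nonneg.2 h2) with h3 | h3
      · exfalso
        have h4 := supp_of_sset (sset_subset_iff.1 hs.le) (x := -(rep cs h w (sr j))) h3.2.2 j hj
        rw [map_neg, rep_inv_apply, Pi.neg_apply, sr_self] at h4
        omega
      · have h4 := (NotJ.act hL.1 h3).2.1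
        rw [map_neg] at h4
        exact neg_nonneg.1 h4
  rw [← h1, ← mul_assoc, hL.mul_self, one_mul]

variable [Finite W]

/-- positive roots made positive by `w_K w₀` -/
theorem winf_pos {K : Set I} {x : I → ℤ} (hx : IsRoot cs h x) (h0 : 0 ≤ x)
    (hp : 0 ≤ rep cs h (wJ cs K * w0 cs) x) : rep cs h (wJ cs K * w0 cs) x ∈ PosJ cs h K := by
  have hL := longest_wJ (cs := cs) K
  have h1 := rep_w0_nonpos hx h0
  rcases mem_PosJ_or_NotJ K (hx.act (w0 cs)).neg (neg_nonneg.2 h1) with h2 | h2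
  · have h3 := RootsJ.act hL.1 (RootsJ.neg (PosJ_subset K h2))
    rw [neg_neg, ← rep_mul_apply] at h3
    exact ⟨h3.1, hp, h3.2⟩
  · exfalso
    have h3 := (NotJ.act hL.1 h2).2.1
    rw [map_neg, ← rep_mul_apply] at h3
    exact (hx.act _).not_pos_neg hp (neg_nonneg.1 h3)

theorem winf_NotJ {K : Set I} {x : I → ℤ} (hx : x ∈ NotJ cs h (Dset cs h (wJ cs K * w0 cs))) :
    rep cs h (wJ cs K * w0 cs) x ∈ NotNJ cs h K := by
  have hL := longest_wJ (cs := cs) K
  obtain ⟨hr, h0, j, hj, hj0⟩ := hx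
  have h1 : -(rep cs h (w0 cs) (sr j)) ∈ NotJ cs h K := by
    rcases mem_PosJ_or_NotJ K ((isRoot_sr cs h j).act (w0 cs)).neg
      (neg_nonneg.2 (rep_w0_nonpos (isRoot_sr cs h j) (sr_nonneg j))) with h2 | h2
    · exfalso
      apply hj
      have h3 := rep_longest_nonpos hL h2
      rw [map_neg, ← rep_mul_apply] at h3
      exact neg_nonpos.1 h3
    · exact h2
  obtain ⟨-, -, m, hm, hm0⟩ := h1
  have h2 : -(rep cs h (w0 cs) x) ∈ NotJ cs h K := by
    refine ⟨(hr.act _).neg, neg_nonneg.2 (rep_w0_nonpos hr h0), m, hm, ?_⟩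
    rw [Pi.neg_apply, rep_apply_sum, ← Finset.sum_neg_distrib]
    have h3 : ∀ i ∈ Finset.univ, 0 ≤ -(x i * rep cs h (w0 cs) (sr i) m) := by
      intro i _
      have h4 := rep_w0_nonpos (isRoot_sr cs h i) (sr_nonneg i) m
      rw [Pi.zero_apply] at h4
      have h5 := h0 i
      rw [Pi.zero_apply] at h5
      nlinarith
    refine lt_of_lt_of_le ?_ (Finset.single_le_sum h3 (Finset.mem_univ j))
    rw [Pi.neg_apply] at hm0
    nlinarith
  have h3 := NotJ.act hL.1 h2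
  rw [map_neg, ← rep_mul_apply] at h3
  exact h3

theorem winf_PosJ {K : Set I} {x : I → ℤ} (hx : x ∈ PosJ cs h (Dset cs h (wJ cs K * w0 cs))) :
    rep cs h (wJ cs K * w0 cs) x ∈ PosJ cs h K :=
  winf_pos hx.1 hx.2.1 (rep_nonneg_of_supp (J := Dset cs h (wJ cs K * w0 cs)) (fun _ hi => hi) hx.2.1 hx.2.2)

theorem winf_inv_NotNJ {K : Set I} {x : I → ℤ} (hx : x ∈ NotNJ cs h K) :
    rep cs h (wJ cs K * w0 cs)⁻¹ x ∈ NotJ cs h (Dset cs h (wJ cs K * w0 cs)) := by
  have hL := longest_wJ (cs := cs) K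
  have hr := NotNJ.isRoot hx
  have h1 : rep cs h (wJ cs K)⁻¹ x ∈ NotNJ cs h K := NotNJ.act (inv_mem hL.1) hx
  have h2 : 0 ≤ rep cs h (wJ cs K * w0 cs)⁻¹ x := by
    rw [mul_inv_rev, rep_mul_apply, w0_inv]
    exact rep_w0_nonneg (NotNJ.isRoot h1) (neg_nonneg.1 h1.2.1)
  rcases mem_PosJ_or_NotJ (Dset cs h (wJ cs K * w0 cs)) (hr.act _) h2 with h3 | h3
  · exfalso
    have h4 := winf_PosJ h3
    rw [rep_apply_inv] at h4
    exact hr.not_pos_neg h4.2.1 (neg_nonneg.1 hx.2.1)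
  · exact h3

theorem winf_inv_PosJ {K : Set I} {x : I → ℤ} (hx : x ∈ PosJ cs h K) :
    rep cs h (wJ cs K * w0 cs)⁻¹ x ∈ PosJ cs h (Dset cs h (wJ cs K * w0 cs)) := by
  have hL := longest_wJ (cs := cs) K
  have h1 : rep cs h (wJ cs K)⁻¹ x ≤ 0 := by
    rw [hL.inv_eq]
    exact rep_longest_nonpos hL hx
  have h2 : 0 ≤ rep cs h (wJ cs K * w0 cs)⁻¹ x := by
    rw [mul_inv_rev, rep_mul_apply, w0_inv]
    exact rep_w0_nonneg (hx.1.act _) h1
  rcases mem_PosJ_or_NotJ (Dset cs h (wJ cs K * w0 cs)) (hx.1.act _) h2 with h3 | h3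
  · exact h3
  · exfalso
    have h4 := winf_NotJ h3
    rw [rep_apply_inv] at h4
    exact hx.1.not_pos_neg hx.2.1 (neg_nonneg.1 h4.2.1)

theorem sset_winf (K : Set I) : Sset cs h K (wJ cs K * w0 cs) = Dset cs h (wJ cs K * w0 cs) := by
  apply Set.Subset.antisymm
  · rw [sset_subset_iff]
    intro k hk
    exact PosJ_subset _ (winf_inv_PosJ (sr_mem_PosJ hk))
  · intro j hj
    have h1 := winf_pos (isRoot_sr cs h j) (sr_nonneg j) hj
    by_contra hcon
    have h2 : ∀ k ∈ K, rep cs h (wJ cs K * w0 cs)⁻¹ (sr k) j = 0 := by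
      intro k hk
      by_contra hne
      exact hcon ⟨k, hk, hne⟩
    have h3 : (sr j : I → ℤ) j = rep cs h (wJ cs K * w0 cs)⁻¹ (rep cs h (wJ cs K * w0 cs) (sr j)) j := by
      rw [rep_inv_apply]
    rw [rep_apply_sum (wJ cs K * w0 cs)⁻¹, sr_self, Finset.sum_eq_zero] at h3
    · exact absurd h3 one_ne_zero
    · intro k _
      by_cases hk : k ∈ K
      · rw [h2 k hk, mul_zero]
      · rw [h1.2.2 k hk, zero_mul]

theorem ncard_dset (K : Set I) : (Dset cs h (wJ cs K * w0 cs)).ncard = K.ncard := by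
  set w := wJ cs K * w0 cs with hw
  have hs : Sset cs h K w = Dset cs h w := sset_winf K
  have h1 : ∀ j ∈ Dset cs h w, ∃ k ∈ K, rep cs h w (sr j) = sr k := by
    intro j hj
    rw [← hs] at hj
    obtain ⟨k, hk, hne⟩ := hj
    exact ⟨k, hk, exists_simple hs.le hk hne⟩
  choose! σ hσ hσ' using h1
  have hinj : ∀ {i j : I}, (sr i : I → ℤ) = sr j → i = j := by
    intro i j hij
    by_contra hne
    have := congrFun hij i
    rw [sr_self, sr_ne hne] at this
    exact absurd this one_ne_zero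
  refine Set.ncard_congr (fun j _ => σ j) (fun j hj => hσ j hj) (fun i j hi hj hij => ?_) fun k hk => ?_
  · have h2 : rep cs h w (sr i) = rep cs h w (sr j) := by
      rw [hσ' i hi, hσ' j hj]
      exact congrArg sr hij
    have h3 := congrArg (rep cs h w⁻¹) h2
    rw [rep_inv_apply, rep_inv_apply] at h3
    exact hinj h3
  · have h2 : rep cs h w⁻¹ (sr k) ≠ 0 := ((isRoot_sr cs h k).act _).ne_zero
    obtain ⟨j, hj⟩ := Function.ne_iff.1 h2
    have hjD : j ∈ Dset cs h w := hs ▸ ⟨k, hk, hj⟩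
    refine ⟨j, hjD, ?_⟩
    have h3 := exists_simple hs.le hk hj
    rw [hσ' j hjD] at h3
    exact hinj h3

end Cfsg.Agent.H769.Kaw
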