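import Cfsg.Agent.H769.Kaw.Sum
import Cfsg.Agent.Nodes.LeviDec
import Cfsg.Agent.Tits.OppRes

/-!
# Cosets of parabolic subgroups and cells (S4842, K-ALL part (A); helper769)

* `MinP R J g` : `g` lies in a cell `w` with `w α_j > 0` for `j ∈ J`;
* `sumQ` : for a right `P_J`-invariant function: the sum over `G / P_J` is the sum over the cosets `g B` with `MinP`.
-/

set_option autoImplicit false
set_option linter.unusedSectionVars false

namespace Cfsg.Agent.H769.Kaw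

open CoxeterSystem Cfsg.Agent.ChevalleyStructure.CoxeterGeom Cfsg.Agent.Tits.Roots Cfsg.Agent.Tits.Core
  Cfsg.Agent.Tits.Exchange Cfsg.Agent.Nodes.Reps Cfsg.Agent.Nodes.BNOf Cfsg.Agent.Nodes.StabComb
  Cfsg.Agent.Nodes.Comb Cfsg.Agent.Nodes.Bruhat Cfsg.Agent.Nodes.OppDec Cfsg.Agent.Nodes.LeviDec

variable {I W Y : Type*} [Fintype I] [DecidableEq I] [Group W] [Group Y] {M : CoxeterMatrix I}
  {cs : CoxeterSystem M W} {A : I → I → ℤ} {h : IsCartan M A} {p : ℕ} {T : Subgroup Y} {n : I → Y}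
  {X : (I → ℤ) → Subgroup Y}

theorem eq_sum_sr (x : I → ℤ) : x = ∑ k, x k • sr k := by
  funext k
  rw [Finset.sum_apply, Finset.sum_eq_single k (fun b _ hb => by
    rw [Pi.smul_apply, sr_ne hb.symm, smul_zero]) (by simp), Pi.smul_apply, sr_self, smul_eq_mul, mul_one]

theorem rep_nonneg_of_supp {J : Set I} {w : W} (hw : ∀ i ∈ J, 0 ≤ rep cs h w (sr i)) {x : I → ℤ} (h0 : 0 ≤ x)
    (hx : ∀ k, k ∉ J → x k = 0) : 0 ≤ rep cs h w x := by
  rw [eq_sum_sr x, map_sum]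
  refine Finset.sum_nonneg fun k _ => ?_
  rw [map_smul]
  by_cases hk : k ∈ J
  · exact smul_nonneg (h0 k) (hw k hk)
  · rw [hx k hk, zero_smul]

/-- `g` lies in a cell `w` with `w α_j > 0` for all `j ∈ J` -/
def MinP (R : RGD cs h p T n X) (J : Set I) (g : Y) : Prop :=
  ∃ w, Cell R.nsys cs h X w g ∧ ∀ j ∈ J, 0 ≤ rep cs h w (sr j)

variable (R : RGD cs h p T n X)

include R

theorem MinP.mul_right {J : Set I} {g b : Y} (hg : MinP R J g) (hb : b ∈ RGD.B cs h T X) : MinP R J (g * b) := by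
  obtain ⟨w, hw, h1⟩ := hg
  exact ⟨w, hw.mul_right hb, h1⟩

theorem MinP.mem_B [Finite W] {J : Set I} {g x : Y} (hg : MinP R J g) (hx : x ∈ PJ cs h T X J)
    (hgx : MinP R J (g * x)) : x ∈ RGD.B cs h T X := by
  obtain ⟨w0, hw0, h0⟩ := hg
  obtain ⟨w2, hw2, h2⟩ := hgx
  obtain ⟨w1, hw1, hc⟩ := (mem_PJ_iff_cell R).1 hx
  have hF : Cfsg.Agent.Tits.OppRes.Cox cs := inferInstance
  have hlen := hF.add_right J w0 (fun j hj => (lt_iff' cs h w0 j).2 (h0 j hj)) w1 hw1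
  have h3 := Cell.unique R hw2 (Cell.mul_of_length R hlen hw0 hc)
  by_cases h1 : w1 = 1
  · rw [h1] at hc
    exact hc.mem_of_one
  exfalso
  obtain ⟨j, hj, hlt⟩ := hF.exists_descent hw1 h1
  have h4 : rep cs h w1 (sr j) ≤ 0 := nonpos_of_lt cs h w1 j hlt
  have h5 : rep cs h w1 (sr j) ∈ RootsJ cs h J :=
    RootsJ.act hw1 (PosJ_subset J (sr_mem_PosJ hj))
  have h6 : 0 ≤ rep cs h w0 (-(rep cs h w1 (sr j))) :=
    rep_nonneg_of_supp h0 (neg_nonneg.2 h4) fun k hk => by rw [Pi.neg_apply, h5.2 k hk, neg_zero]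
  rw [map_neg, ← rep_mul_apply] at h6
  have h7 := h2 j hj
  rw [h3] at h7
  exact ((isRoot_sr cs h j).act (w0 * w1)).not_pos_neg h7 (neg_nonneg.1 h6)

/-- every coset of `P_J` meets these cells -/
theorem exists_minP [Finite W] (hG : GG cs h T X = ⊤) (J : Set I) (g : Y) :
    ∃ x ∈ PJ cs h T X J, MinP R J (g * x) := by
  obtain ⟨w, b₁, hb₁, k, hk, b₂, hb₂, rfl⟩ := (mem_GG R).1 (by rw [hG]; exact Subgroup.mem_top g)
  obtain ⟨v, hv, hmin⟩ := exists_min (cs := cs) w J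
  obtain ⟨kv, hkv⟩ := exists_rp cs R.nsys v
  refine ⟨b₂⁻¹ * kv, mul_mem (B_le_PJ (inv_mem hb₂)) (LJ_le_PJ (rp_mem_LJ R hv hkv)), w * v,
    ⟨b₁, hb₁, k * kv, hk.mul hkv, 1, one_mem _, by group⟩, fun j hj => nonneg_of_min cs h hv hmin hj⟩

open Classical in
/-- **sums over `G / P_J`** -/
theorem sumQ [Finite W] [Fintype Y] {V : Type*} [AddCommMonoid V] (hG : GG cs h T X = ⊤) (J : Set I) (φ : Y → V)
    (hφ : ∀ g, ∀ x ∈ PJ cs h T X J, φ (g * x) = φ g) :
    ∑ c : Y ⧸ PJ cs h T X J, φ c.out =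
      ∑ d ∈ Finset.univ.filter (fun d : Y ⧸ RGD.B cs h T X => MinP R J d.out), φ d.out := by
  symm
  refine Finset.sum_bij (fun d _ => (QuotientGroup.mk d.out : Y ⧸ PJ cs h T X J)) (fun _ _ => Finset.mem_univ _)
    (fun d hd e he hde => ?_) (fun c _ => ?_) (fun d hd => ?_)
  · simp only [Finset.mem_filter, Finset.mem_univ, true_and] at hd he
    have h1 : d.out⁻¹ * e.out ∈ PJ cs h T X J := QuotientGroup.eq.1 hde
    have h2 : d.out⁻¹ * e.out ∈ RGD.B cs h T X := MinP.mem_B R hd h1 (by rwa [mul_inv_cancel_left])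
    rw [← d.out_eq', ← e.out_eq']
    exact QuotientGroup.eq.2 h2
  · obtain ⟨x, hx, hm⟩ := exists_minP R hG J c.out
    set d : Y ⧸ RGD.B cs h T X := QuotientGroup.mk (c.out * x) with hd
    have h1 : (c.out * x)⁻¹ * d.out ∈ RGD.B cs h T X := QuotientGroup.eq.1 (by rw [hd]; exact (Quotient.out_eq' _).symm)
    have h2 : d.out = c.out * x * ((c.out * x)⁻¹ * d.out) := by group
    refine ⟨d, ?_, ?_⟩
    · simp only [Finset.mem_filter, Finset.mem_univ, true_and]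
      rw [h2]
      exact hm.mul_right R h1
    · conv_rhs => rw [← c.out_eq']
      refine QuotientGroup.eq.2 ?_
      rw [h2]
      have h3 : (c.out * x * ((c.out * x)⁻¹ * d.out))⁻¹ * c.out = ((c.out * x)⁻¹ * d.out)⁻¹ * x⁻¹ := by group
      rw [h3]
      exact mul_mem (inv_mem (B_le_PJ h1)) (inv_mem hx)
  · have h1 : d.out⁻¹ * (QuotientGroup.mk d.out : Y ⧸ PJ cs h T X J).out ∈ PJ cs h T X J :=
      QuotientGroup.eq.1 (Quotient.out_eq' _).symm
    rw [← hφ d.out _ h1, mul_inv_cancel_left]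

end Cfsg.Agent.H769.Kaw
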