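import Cfsg.Agent.H769.Kaw.Comb
import Cfsg.Agent.Nodes.CardSup

/-!
# The sums over conjugates of the radicals on cuspidal vectors (S4842, K-ALL part (A); helper769)

* `sm_eq_zero` : `∑ v ∈ g V_J g⁻¹, v f = 0` if `g` is in a cell `w` with `w⁻¹ K ⊄ Φ_J`;
* `indep` : if `w⁻¹ K ⊆ Φ_J` and `w J > 0` then `|U_J| ∑ v ∈ g V_J g⁻¹, v f` does not depend on `J`.
-/

set_option autoImplicit false
set_option linter.unusedSectionVars false

namespace Cfsg.Agent.H769.Kaw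

open CoxeterSystem Cfsg.Agent.ChevalleyStructure.CoxeterGeom Cfsg.Agent.Tits.Roots Cfsg.Agent.Tits.Core
  Cfsg.Agent.Tits.Exchange Cfsg.Agent.Nodes.Reps Cfsg.Agent.Nodes.BNOf Cfsg.Agent.Nodes.StabComb
  Cfsg.Agent.Nodes.Comb Cfsg.Agent.Nodes.Bruhat Cfsg.Agent.Nodes.OppDec Cfsg.Agent.Nodes.LeviDec
  Cfsg.Agent.Nodes.CardSup

variable {I W Y : Type*} [Fintype I] [DecidableEq I] [Group W] [Group Y] {M : CoxeterMatrix I}
  {cs : CoxeterSystem M W} {A : I → I → ℤ} {h : IsCartan M A} {p : ℕ} {T : Subgroup Y} {n : I → Y}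
  {X : (I → ℤ) → Subgroup Y}

variable (R : RGD cs h p T n X)

include R

theorem B_le_normalizer_VJ (J : Set I) : RGD.B cs h T X ≤ Subgroup.normalizer (VJ cs h X J : Set Y) :=
  le_trans B_le_PJ (PJ_le_normalizer_VJ R J)

theorem cj_VJ_mul {J : Set I} {x : Y} (hx : x ∈ PJ cs h T X J) (g : Y) :
    cj (g * x) (VJ cs h X J) = cj g (VJ cs h X J) := by
  rw [cj_mul, cj_of_normalizer (PJ_le_normalizer_VJ R J hx)]

variable {V : Type*} [AddCommGroup V] [DistribMulAction Y V]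

theorem fix_smul {K : Set I} {f : V} (hf : ∀ v ∈ VJ cs h X K, v • f = f) {x : Y} (hx : x ∈ PJ cs h T X K) :
    ∀ v ∈ VJ cs h X K, v • x • f = x • f := by
  intro v hv
  have h1 : x⁻¹ * v * x ∈ VJ cs h X K := by
    have h2 := (Subgroup.mem_normalizer_iff.1 (PJ_le_normalizer_VJ R K (inv_mem hx))) v
    rw [inv_inv] at h2
    exact h2.1 hv
  have h3 : v • x • f = x • (x⁻¹ * v * x) • f := by
    rw [← mul_smul, ← mul_smul]
    congr 1
    group
  rw [h3, hf _ h1]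

omit R in
theorem fix_sm [Fintype Y] {H N : Subgroup Y} (hH : H ≤ Subgroup.normalizer (N : Set Y)) {f : V}
    (hf : ∀ v ∈ N, v • f = f) : ∀ v ∈ N, v • sm H f = sm H f := by
  classical
  intro v hv
  rw [sm_def, Finset.smul_sum]
  refine Finset.sum_congr rfl fun x hx => ?_
  have hx' := (Finset.mem_filter.1 hx).2
  have h1 : x⁻¹ * v * x ∈ N := by
    have h2 := (Subgroup.mem_normalizer_iff.1 (hH (inv_mem hx'))) v
    rw [inv_inv] at h2
    exact h2.1 hv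
  have h3 : v • x • f = x • (x⁻¹ * v * x) • f := by
    rw [← mul_smul, ← mul_smul]
    congr 1
    group
  rw [h3, hf _ h1]

/-- **the sum is zero on cuspidal vectors** -/
theorem sm_eq_zero [Finite W] [Fintype Y] {K : Finset I} {J : Set I} {w : W} {g : Y} (hw : Cell R.nsys cs h X w g)
    (hn : ¬ ∀ k ∈ K, rep cs h w⁻¹ (sr k) ∈ RootsJ cs h J) {f : V}
    (hf : ∀ v ∈ VJ cs h X (K : Set I), v • f = f)
    (hc : ∀ K' : Finset I, K' ⊂ K → ∀ m : V, (∀ v ∈ VJ cs h X (K' : Set I), v • m = m) → m = 0) :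
    sm (cj g (VJ cs h X J)) f = 0 := by
  classical
  obtain ⟨b₁, hb₁, k, hk, b₂, hb₂, rfl⟩ := hw
  obtain ⟨v, hv, hmin⟩ := exists_min (cs := cs) w⁻¹ (K : Set I)
  have h3 : ∀ i ∈ (K : Set I), 0 ≤ rep cs h (w⁻¹ * v) (sr i) := fun i hi => nonneg_of_min cs h hv hmin hi
  obtain ⟨k1, hk1⟩ := exists_rp cs R.nsys v
  have hk' : Rp cs R.nsys (v⁻¹ * w) (k1⁻¹ * k) := hk1.inv.mul hk
  set w' := v⁻¹ * w with hw'
  have hwi : w'⁻¹ = w⁻¹ * v := by rw [hw', mul_inv_rev, inv_inv]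
  rw [← hwi] at h3
  have e1 : cj (b₁ * k * b₂) (VJ cs h X J) = cj (b₁ * k1) (cj (k1⁻¹ * k) (VJ cs h X J)) := by
    rw [cj_VJ_mul R (B_le_PJ hb₂), ← cj_mul]
    congr 1
    group
  have hx : b₁ * k1 ∈ PJ cs h T X (K : Set I) :=
    mul_mem (B_le_PJ hb₁) (LJ_le_PJ (rp_mem_LJ R hv hk1))
  rw [e1, sm_cj]
  have hf' := fix_smul R hf (inv_mem hx)
  set f' := (b₁ * k1)⁻¹ • f with hf'def
  suffices hz : sm (cj (k1⁻¹ * k) (VJ cs h X J)) f' = 0 by rw [hz, smul_zero]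
  -- the set `K'`
  set K' : Finset I := K.filter (fun i => rep cs h w'⁻¹ (sr i) ∈ RootsJ cs h J) with hK'
  set E : Subgroup Y := RGD.Sup X (PosJ cs h (K : Set I) ∩ NotJ cs h (K' : Set I)) with hE
  have hroot : ∀ x ∈ PosJ cs h (K : Set I) ∩ NotJ cs h (K' : Set I), rep cs h w'⁻¹ x ∈ NotJ cs h J := by
    rintro x ⟨hx1, hx2⟩
    obtain ⟨i, hi, hi0⟩ := hx2.2.2
    have hiK : i ∈ K := by
      by_contra hcon
      have := hx1.2.2 i (by simpa using hcon)
      omega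
    have h4 : rep cs h w'⁻¹ (sr i) ∉ RootsJ cs h J := by
      intro hcon
      exact hi (by simpa [hK', hiK] using hcon)
    have h5 : ∃ m, m ∉ J ∧ rep cs h w'⁻¹ (sr i) m ≠ 0 := by
      by_contra hcon
      push Not at hcon
      exact h4 ⟨(isRoot_sr cs h i).act _, hcon⟩
    obtain ⟨m, hmJ, hm⟩ := h5
    have h6 : 0 < rep cs h w'⁻¹ (sr i) m := lt_of_le_of_ne (h3 i (by simpa using hiK) m) (Ne.symm hm)
    refine ⟨hx1.1.act _, rep_nonneg_of_supp h3 hx1.2.1 hx1.2.2, m, hmJ, ?_⟩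
    rw [rep_apply_sum]
    have h7 : ∀ l ∈ Finset.univ, 0 ≤ x l * rep cs h w'⁻¹ (sr l) m := by
      intro l _
      by_cases hl : l ∈ (K : Set I)
      · exact mul_nonneg (hx1.2.1 l) (h3 l hl m)
      · rw [hx1.2.2 l hl, zero_mul]
    exact lt_of_lt_of_le (mul_pos hi0 h6) (Finset.single_le_sum h7 (Finset.mem_univ i))
  have hEle : E ≤ cj (k1⁻¹ * k) (VJ cs h X J) := by
    refine RGD.Sup_le fun x hx0 => ?_
    have h4 := hroot x hx0
    have h5 := R.conj_rp hk' h4.1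
    rw [rep_apply_inv] at h5
    rw [← h5]
    exact cj_mono _ (RGD.le_Sup h4)
  refine sm_eq_zero_of_le hEle ?_
  -- `sm E f'` is fixed by `V_K'`
  have hEL : E ≤ LJ cs h T X (K : Set I) := RGD.Sup_le fun x hx0 => X_le_LJ (PosJ_subset _ hx0.1)
  have hK'ss : K' ⊂ K := by
    refine Finset.ssubset_iff_subset_ne.2 ⟨Finset.filter_subset _ _, fun he => hn ?_⟩
    intro i hi
    have h4 : ∀ l ∈ (K : Set I), rep cs h w'⁻¹ (sr l) ∈ RootsJ cs h J := by
      intro l hl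
      have hl' : l ∈ K := by simpa using hl
      rw [← he] at hl'
      exact (Finset.mem_filter.1 hl').2
    have h5 : rep cs h v⁻¹ (sr i) ∈ RootsJ cs h (K : Set I) :=
      RootsJ.act (inv_mem hv) (PosJ_subset _ (sr_mem_PosJ (by simpa using hi)))
    have h6 : rep cs h w⁻¹ (sr i) = rep cs h w'⁻¹ (rep cs h v⁻¹ (sr i)) := by
      rw [← rep_mul_apply, hwi, mul_assoc, mul_inv_cancel, mul_one]
    rw [h6]
    exact ⟨h5.1.act _, fun m hm => supp_of_sset h4 h5.2 m hm⟩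
  refine hc K' hK'ss _ ?_
  have hstab : VJ cs h X (K' : Set I) ≤ MulAction.stabilizer Y (sm E f') := by
    refine RGD.Sup_le fun x hx0 u hu => ?_
    rw [MulAction.mem_stabilizer_iff]
    rcases mem_PosJ_or_NotJ (K : Set I) hx0.1 hx0.2.1 with h4 | h4
    · exact smul_sm_of_mem (RGD.le_Sup (S := PosJ cs h (K : Set I) ∩ NotJ cs h (K' : Set I)) ⟨h4, hx0⟩ hu) f'
    · exact fix_sm (le_trans hEL (LJ_le_normalizer_VJ R (K : Set I))) hf' u (RGD.le_Sup h4 hu)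
  exact fun u hu => MulAction.mem_stabilizer_iff.1 (hstab hu)

theorem card_U [Finite W] [Finite Y] (J : Set I) : Nat.card (RGD.Sup X (RGD.Pos cs h)) =
    Nat.card (UJ cs h X J) * Nat.card (VJ cs h X J) :=
  card_mul_of_disjoint (UJ_le_U J) (VJ_le_U J) (fun _ hg => (mem_U_iff R).1 hg) (UJ_inf_VJ R J)

/-- **independence of `J`** -/
theorem indep [Finite W] [Fintype Y] {K J J' : Set I} (hJJ : J ⊆ J') {w : W} {g : Y}
    (hw : Cell R.nsys cs h X w g) (hJ' : ∀ j ∈ J', 0 ≤ rep cs h w (sr j))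
    (hs : ∀ k ∈ K, rep cs h w⁻¹ (sr k) ∈ RootsJ cs h J) {f : V} (hf : ∀ v ∈ VJ cs h X K, v • f = f) :
    Nat.card (UJ cs h X J) • sm (cj g (VJ cs h X J)) f =
      Nat.card (UJ cs h X J') • sm (cj g (VJ cs h X J')) f := by
  obtain ⟨b₁, hb₁, k, hk, b₂, hb₂, rfl⟩ := hw
  rw [cj_VJ_mul R (B_le_PJ hb₂), cj_VJ_mul R (B_le_PJ hb₂), cj_mul, cj_mul, sm_cj b₁, sm_cj b₁]
  have hf' := fix_smul R hf (inv_mem (B_le_PJ hb₁))
  set f' := b₁⁻¹ • f with hf'def
  set E : Subgroup Y := RGD.Sup X (PosJ cs h J' ∩ NotJ cs h J) with hE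
  have hEU : E ≤ UJ cs h X J' := RGD.Sup_mono fun _ hx => hx.1
  have hEV : E ≤ VJ cs h X J := RGD.Sup_mono fun _ hx => hx.2
  have hVV : VJ cs h X J' ≤ VJ cs h X J := RGD.Sup_mono fun x hx => by
    obtain ⟨hr, h0, m, hm, hm0⟩ := hx
    exact ⟨hr, h0, m, fun hmJ => hm (hJJ hmJ), hm0⟩
  have hEL : E ≤ LJ cs h T X J' := RGD.Sup_le fun x hx0 => X_le_LJ (PosJ_subset _ hx0.1)
  have hmem : ∀ x ∈ VJ cs h X J, ∃ a ∈ VJ cs h X J', ∃ b ∈ E, x = a * b := by
    intro x hx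
    have h2 : VJ cs h X J ≤ VJ cs h X J' ⊔ E := by
      refine RGD.Sup_le fun y hy => ?_
      rcases mem_PosJ_or_NotJ J' hy.1 hy.2.1 with h1 | h1
      · exact le_trans (RGD.le_Sup (S := PosJ cs h J' ∩ NotJ cs h J) ⟨h1, hy⟩) le_sup_right
      · exact le_trans (RGD.le_Sup h1) le_sup_left
    have h1 : x ∈ ((VJ cs h X J' ⊔ E : Subgroup Y) : Set Y) := h2 hx
    rw [Subgroup.coe_mul_of_right_le_normalizer_left _ _ (le_trans hEL (LJ_le_normalizer_VJ R J')),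
      Set.mem_mul] at h1
    obtain ⟨a, ha, b, hb, e⟩ := h1
    exact ⟨a, ha, b, hb, e.symm⟩
  have hdis : VJ cs h X J' ⊓ E = ⊥ := by
    rw [eq_bot_iff, ← UJ_inf_VJ R J', inf_comm (UJ cs h X J')]
    exact inf_le_inf_left _ hEU
  -- the sum
  have key : sm (cj k (VJ cs h X J)) f' = Nat.card E • sm (cj k (VJ cs h X J')) f' := by
    have h1 : sm (cj k (VJ cs h X J)) f' = Nat.card (cj k E) • sm (cj k (VJ cs h X J')) f' := by
      refine sm_mul_of_fix (cj_mono k hVV) (cj_mono k hEV) (fun x hx1 hx2 => ?_) (fun x hx => ?_) ?_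
      · have h2 : k⁻¹ * x * k ∈ VJ cs h X J' ⊓ E := ⟨mem_cj.1 hx1, mem_cj.1 hx2⟩
        rw [hdis, Subgroup.mem_bot] at h2
        calc x = k * (k⁻¹ * x * k) * k⁻¹ := by group
          _ = 1 := by rw [h2]; group
      · obtain ⟨a, ha, b, hb, e⟩ := hmem _ (mem_cj.1 hx)
        refine ⟨k * a * k⁻¹, conj_mem_cj.2 ha, k * b * k⁻¹, conj_mem_cj.2 hb, ?_⟩
        calc x = k * (k⁻¹ * x * k) * k⁻¹ := by group
          _ = _ := by rw [e]; group
      · have h2 : cj k E ≤ VJ cs h X K := by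
          refine cj_Sup_le R hk (fun x hx => hx.1.1) fun x hx => ?_
          have h3 : 0 ≤ rep cs h w x := rep_nonneg_of_supp hJ' hx.1.2.1 hx.1.2.2
          rcases mem_PosJ_or_NotJ K (hx.1.1.act w) h3 with h4 | h4
          · exfalso
            obtain ⟨-, -, m, hm, hm0⟩ := hx.2
            have h5 := supp_of_sset hs h4.2.2 m hm
            rw [rep_inv_apply] at h5
            omega
          · exact h4
        exact fun x hx => hf' x (h2 hx)
    rwa [card_cj] at h1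
  have hcard : Nat.card (UJ cs h X J) * Nat.card E = Nat.card (UJ cs h X J') := by
    have h1 := card_U R J
    have h2 := card_U R J'
    have h3 : Nat.card (VJ cs h X J) = Nat.card (VJ cs h X J') * Nat.card E :=
      card_mul_of_disjoint hVV hEV hmem hdis
    have h4 : 0 < Nat.card (VJ cs h X J') := Nat.card_pos
    have h5 : Nat.card (UJ cs h X J) * Nat.card E * Nat.card (VJ cs h X J') =
        Nat.card (UJ cs h X J') * Nat.card (VJ cs h X J') := by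
      rw [← h2, h1, h3]
      ring
    exact Nat.eq_of_mul_eq_mul_right h4 h5
  rw [key, ← hcard, mul_smul, smul_comm b₁ (Nat.card E)]

end Cfsg.Agent.H769.Kaw
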