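import Mathlib
import Cfsg.Agent.Nodes.Reps

/-!
# Sums over subgroups acting on a module (S4842, K-ALL part (A); helper769)

* `sm H f = ∑ x ∈ H, x • f`;
* `sm_cj`, `sm_fix`, `sm_eq_zero_of_le`, `sm_mul` (product decomposition), `sum_powerset_Icc` (signs).
-/

set_option autoImplicit false

open Cfsg.Agent.Nodes.Reps

namespace Cfsg.Agent.H769.Kaw

variable {Y V : Type*} [Group Y] [Fintype Y] [AddCommGroup V] [DistribMulAction Y V]

open Classical in
/-- `∑ x ∈ H, x • f` -/
noncomputable def sm (H : Subgroup Y) (f : V) : V := ∑ x ∈ Finset.univ.filter (· ∈ H), x • f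

open Classical in
theorem sm_def (H : Subgroup Y) (f : V) : sm H f = ∑ x ∈ Finset.univ.filter (· ∈ H), x • f := rfl

open Classical in
theorem sm_eq_sum (H : Subgroup Y) [Fintype H] (f : V) : sm H f = ∑ x : H, (x : Y) • f := by
  rw [sm_def]
  refine (Finset.sum_bij (fun (x : H) _ => (x : Y)) (fun x _ => by simp) (fun x _ y _ hxy => Subtype.ext hxy)
    (fun y hy => ?_) fun _ _ => rfl).symm
  exact ⟨⟨y, (Finset.mem_filter.1 hy).2⟩, Finset.mem_univ _, rfl⟩

theorem sm_zero (H : Subgroup Y) : sm H (0 : V) = 0 := by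
  classical
  rw [sm_def]
  exact Finset.sum_eq_zero fun x _ => smul_zero x

/-- left translates -/
theorem smul_sm_of_mem {H : Subgroup Y} {a : Y} (ha : a ∈ H) (f : V) : a • sm H f = sm H f := by
  classical
  rw [sm_def, Finset.smul_sum]
  refine Finset.sum_bij (fun x _ => a * x) (fun x hx => ?_) (fun x _ y _ hxy => mul_left_cancel hxy)
    (fun y hy => ⟨a⁻¹ * y, ?_, by group⟩) (fun x _ => (mul_smul a x f).symm)
  · simp only [Finset.mem_filter, Finset.mem_univ, true_and] at hx ⊢
    exact mul_mem ha hx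
  · simp only [Finset.mem_filter, Finset.mem_univ, true_and] at hy ⊢
    exact mul_mem (inv_mem ha) hy

/-- right translates -/
theorem sm_smul_of_mem {H : Subgroup Y} {a : Y} (ha : a ∈ H) (f : V) : sm H (a • f) = sm H f := by
  classical
  rw [sm_def, sm_def]
  refine Finset.sum_bij (fun x _ => x * a) (fun x hx => ?_) (fun x _ y _ hxy => mul_right_cancel hxy)
    (fun y hy => ⟨y * a⁻¹, ?_, by group⟩) (fun x _ => (mul_smul x a f).symm)
  · simp only [Finset.mem_filter, Finset.mem_univ, true_and] at hx ⊢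
    exact mul_mem hx ha
  · simp only [Finset.mem_filter, Finset.mem_univ, true_and] at hy ⊢
    exact mul_mem hy (inv_mem ha)

/-- conjugates -/
theorem sm_cj (g : Y) (H : Subgroup Y) (f : V) : sm (cj g H) f = g • sm H (g⁻¹ • f) := by
  classical
  rw [sm_def, sm_def, Finset.smul_sum]
  refine Finset.sum_bij (fun x _ => g⁻¹ * x * g) (fun x hx => ?_) (fun x _ y _ hxy => ?_)
    (fun y hy => ⟨g * y * g⁻¹, ?_, by group⟩) (fun x _ => ?_)
  · simp only [Finset.mem_filter, Finset.mem_univ, true_and] at hx ⊢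
    exact mem_cj.1 hx
  · simpa using hxy
  · simp only [Finset.mem_filter, Finset.mem_univ, true_and] at hy ⊢
    exact conj_mem_cj.2 hy
  · rw [← mul_smul, ← mul_smul]
    congr 1
    group

omit [Fintype Y] in
theorem cj_of_normalizer {g : Y} {H : Subgroup Y} (hg : g ∈ Subgroup.normalizer (H : Set Y)) : cj g H = H :=
  mem_normalizer_iff_cj.1 hg

/-- `x` normalises `H` and fixes `f` -/
theorem smul_sm_of_normalizer {H : Subgroup Y} {x : Y} (hx : x ∈ Subgroup.normalizer (H : Set Y)) {f : V}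
    (hf : x • f = f) : x • sm H f = sm H f := by
  have h1 := sm_cj x H f
  rw [cj_of_normalizer hx] at h1
  have h2 : x⁻¹ • f = f := by rw [inv_smul_eq_iff, hf]
  rw [h2] at h1
  exact h1.symm

/-- a factorization `H = A B` with trivial intersection -/
theorem sm_mul {H A B : Subgroup Y} (hA : A ≤ H) (hB : B ≤ H) (hAB : ∀ x ∈ A, x ∈ B → x = 1)
    (hm : ∀ x ∈ H, ∃ a ∈ A, ∃ b ∈ B, x = a * b) (f : V) : sm H f = sm A (sm B f) := by
  classical
  rw [sm_def, sm_def, sm_def]
  simp only [Finset.smul_sum]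
  rw [← Finset.sum_product']
  refine (Finset.sum_bij (fun (x : Y × Y) _ => x.1 * x.2) (fun x hx => ?_) (fun x hx y hy hxy => ?_)
    (fun y hy => ?_) (fun x _ => ?_)).symm
  · simp only [Finset.mem_product, Finset.mem_filter, Finset.mem_univ, true_and] at hx ⊢
    exact mul_mem (hA hx.1) (hB hx.2)
  · simp only [Finset.mem_product, Finset.mem_filter, Finset.mem_univ, true_and] at hx hy
    have h1 : y.1⁻¹ * x.1 = y.2 * x.2⁻¹ := by
      rw [inv_mul_eq_iff_eq_mul, ← mul_assoc, ← hxy]
      group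
    have h2 : y.1⁻¹ * x.1 = 1 :=
      hAB _ (mul_mem (inv_mem hy.1) hx.1) (by rw [h1]; exact mul_mem hy.2 (inv_mem hx.2))
    have h3 : x.1 = y.1 := (inv_mul_eq_one.1 h2).symm
    rw [h2] at h1
    have h4 : y.2 = x.2 := by rw [eq_comm, mul_inv_eq_one] at h1; exact h1
    exact Prod.ext h3 h4.symm
  · simp only [Finset.mem_filter, Finset.mem_univ, true_and] at hy
    obtain ⟨a, ha, b, hb, rfl⟩ := hm y hy
    exact ⟨(a, b), by simp [ha, hb], rfl⟩
  · rw [mul_smul]

theorem sm_of_fix {H : Subgroup Y} {f : V} (hf : ∀ x ∈ H, x • f = f) : sm H f = Nat.card H • f := by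
  classical
  rw [sm_def, Finset.sum_congr rfl fun x hx => hf x (Finset.mem_filter.1 hx).2, Finset.sum_const]
  congr 1
  rw [Nat.card_eq_fintype_card, Fintype.card_subtype]

theorem sm_smul (H : Subgroup Y) (k : ℕ) (f : V) : sm H (k • f) = k • sm H f := by
  classical
  rw [sm_def, sm_def, Finset.smul_sum]
  exact Finset.sum_congr rfl fun x _ => smul_comm x k f

/-- `H = A B` and `B` fixes `f` -/
theorem sm_mul_of_fix {H A B : Subgroup Y} (hA : A ≤ H) (hB : B ≤ H) (hAB : ∀ x ∈ A, x ∈ B → x = 1)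
    (hm : ∀ x ∈ H, ∃ a ∈ A, ∃ b ∈ B, x = a * b) {f : V} (hf : ∀ x ∈ B, x • f = f) :
    sm H f = Nat.card B • sm A f := by
  rw [sm_mul hA hB hAB hm, sm_of_fix hf, sm_smul]

/-- a subgroup of `H` with sum zero -/
theorem sm_eq_zero_of_le {H A : Subgroup Y} (hA : A ≤ H) {f : V} (hf : sm A f = 0) : sm H f = 0 := by
  classical
  have h1 : sm H f = ∑ c : H ⧸ A.subgroupOf H, ((c.out : H) : Y) • sm A f := by
    rw [sm_def]
    simp only [sm_def, Finset.smul_sum]
    rw [← Finset.sum_product']
    refine (Finset.sum_bij (fun (x : (H ⧸ A.subgroupOf H) × Y) _ => ((x.1.out : H) : Y) * x.2) (fun x hx => ?_)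
      (fun x hx y hy hxy => ?_) (fun y hy => ?_) (fun x _ => ?_)).symm
    · simp only [Finset.mem_product, Finset.mem_filter, Finset.mem_univ, true_and] at hx ⊢
      exact mul_mem x.1.out.2 (hA hx)
    · simp only [Finset.mem_product, Finset.mem_filter, Finset.mem_univ, true_and] at hx hy
      have h2 : x.1 = y.1 := by
        rw [← x.1.out_eq', ← y.1.out_eq', QuotientGroup.eq, Subgroup.mem_subgroupOf]
        have h3 : (((x.1.out : H)⁻¹ * (y.1.out : H) : H) : Y) = x.2 * y.2⁻¹ := by
          have h4 : ((x.1.out : H) : Y) * x.2 = ((y.1.out : H) : Y) * y.2 := hxy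
          rw [Subgroup.coe_mul, Subgroup.coe_inv, inv_mul_eq_iff_eq_mul, ← mul_assoc, h4]
          group
        rw [h3]
        exact mul_mem hx (inv_mem hy)
      have h5 : ((x.1.out : H) : Y) * x.2 = ((y.1.out : H) : Y) * y.2 := hxy
      rw [h2] at h5
      exact Prod.ext h2 (mul_left_cancel h5)
    · simp only [Finset.mem_filter, Finset.mem_univ, true_and] at hy
      set c : H ⧸ A.subgroupOf H := QuotientGroup.mk ⟨y, hy⟩ with hc
      have h2 : (c.out : H)⁻¹ * ⟨y, hy⟩ ∈ A.subgroupOf H := by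
        rw [← QuotientGroup.eq, hc]
        exact Quotient.out_eq' _
      rw [Subgroup.mem_subgroupOf] at h2
      refine ⟨(c, ((c.out : H) : Y)⁻¹ * y), ?_, ?_⟩
      · simp only [Finset.mem_product, Finset.mem_filter, Finset.mem_univ, true_and]
        exact h2
      · simp
    · rw [mul_smul]
  rw [h1]
  exact Finset.sum_eq_zero fun c _ => by rw [hf, smul_zero]

theorem smul_sm_sum {ι : Type*} (s : Finset ι) (H : Subgroup Y) (f : ι → V) :
    sm H (∑ i ∈ s, f i) = ∑ i ∈ s, sm H (f i) := by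
  classical
  simp only [sm_def, Finset.smul_sum]
  rw [Finset.sum_comm]

/-- the alternating sum over an interval of finite sets -/
theorem sum_interval {ι : Type*} [Fintype ι] [DecidableEq ι] {K D : Finset ι} (hKD : K ⊆ D) (hne : K ≠ D) (v : V) :
    ∑ J ∈ Finset.univ.filter (fun J : Finset ι => K ⊆ J ∧ J ⊆ D), (-1 : ℤ) ^ J.card • v = 0 := by
  obtain ⟨j, hjD, hjK⟩ : ∃ j ∈ D, j ∉ K := by
    by_contra hcon
    push Not at hcon
    exact hne (Finset.Subset.antisymm hKD hcon)
  refine Finset.sum_involution (fun J _ => if j ∈ J then J.erase j else insert j J) ?_ ?_ ?_ ?_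
  · intro J hJ
    by_cases h1 : j ∈ J
    · rw [if_pos h1, Finset.card_erase_of_mem h1]
      obtain ⟨m, hm⟩ : ∃ m, J.card = m + 1 := ⟨J.card - 1, by have := Finset.card_pos.2 ⟨j, h1⟩; omega⟩
      rw [hm, Nat.add_sub_cancel, pow_succ, mul_neg_one, neg_smul, neg_add_cancel]
    · rw [if_neg h1, Finset.card_insert_of_notMem h1, pow_succ, mul_neg_one, neg_smul, add_neg_cancel]
  · intro J hJ _ he
    by_cases h1 : j ∈ J
    · rw [if_pos h1] at he
      exact absurd h1 (by rw [← he]; exact Finset.notMem_erase j J)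
    · rw [if_neg h1] at he
      exact h1 (by rw [← he]; exact Finset.mem_insert_self j J)
  · intro J hJ
    simp only [Finset.mem_filter, Finset.mem_univ, true_and] at hJ ⊢
    by_cases h1 : j ∈ J
    · rw [if_pos h1]
      exact ⟨fun x hx => Finset.mem_erase.2 ⟨fun he => hjK (he ▸ hx), hJ.1 hx⟩,
        (Finset.erase_subset j J).trans hJ.2⟩
    · rw [if_neg h1]
      exact ⟨hJ.1.trans (Finset.subset_insert j J), Finset.insert_subset hjD hJ.2⟩
  · intro J hJ
    by_cases h1 : j ∈ J
    · simp only [if_pos h1, Finset.notMem_erase, if_false]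
      exact Finset.insert_erase h1
    · simp only [if_neg h1, Finset.mem_insert_self, if_true]
      exact Finset.erase_insert h1

end Cfsg.Agent.H769.Kaw
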